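import Cfsg.Agent.H22W.PyrHBa

set_option autoImplicit false
set_option linter.style.haveILetI false
set_option linter.unusedSectionVars false

/-! S3930, piece HB (helper22). -/

namespace Cfsg.Agent.H22W.HB

open Subgroup

universe u

section Res
variable {P : Type u} [Group P] [Finite P]

/-- restriction of an automorphism to an invariant subgroup -/
noncomputable def res (D : Subgroup P) (h : MulAut P) (hD : ∀ x ∈ D, h x ∈ D) : MulAut D :=
  MulEquiv.ofBijective ((h.toMonoidHom.comp D.subtype).codRestrict D (fun x => hD x x.2))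
    (Finite.injective_iff_bijective.1 (fun x y hxy => Subtype.ext (h.injective (congrArg Subtype.val hxy))))

theorem res_apply (D : Subgroup P) (h : MulAut P) (hD : ∀ x ∈ D, h x ∈ D) (x : D) :
    ((res D h hD x : D) : P) = h x := rfl

theorem res_pow (D : Subgroup P) (h : MulAut P) (hD : ∀ x ∈ D, h x ∈ D) (i : ℕ) (x : D) :
    ((((res D h hD) ^ i) x : D) : P) = (h ^ i) x := by
  induction i with
  | zero => rfl
  | succ i ih => rw [pow_succ', pow_succ', MulAut.mul_apply, MulAut.mul_apply, res_apply, ih]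

theorem inv_mem' (D : Subgroup P) (h : MulAut P) (hD : ∀ x ∈ D, h x ∈ D) {x : P} (hx : x ∈ D) : h⁻¹ x ∈ D := by
  obtain ⟨y, hy⟩ := (res D h hD).surjective ⟨x, hx⟩
  have h1 : h (y : P) = x := congrArg Subtype.val hy
  rw [← h1, MulAut.inv_apply_self]
  exact y.2

theorem pow_mem' (D : Subgroup P) (h : MulAut P) (hD : ∀ x ∈ D, h x ∈ D) (i : ℕ) {x : P} (hx : x ∈ D) : (h ^ i) x ∈ D := by
  rw [← res_pow D h hD i ⟨x, hx⟩]
  exact Subtype.property _

/-- `h^p` is trivial on `E` -/
theorem triv_E (E : Subgroup P) (hE : ∀ x, x ∈ E ↔ x * x = 1) {p : ℕ} (hcard : Nat.card E = p + 1) (h : MulAut P)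
    (htr : ∀ x ∈ E, ∀ y ∈ E, x ≠ 1 → y ≠ 1 → ∃ i : ℕ, (h ^ i) x = y) : ∀ e ∈ E, (h ^ p) e = e := by
  intro e he
  by_cases he1 : e = 1
  · rw [he1, map_one]
  have horb : MulAction.orbit (zpowers h) e = (E : Set P) \ {1} := by
    ext x
    constructor
    · rintro ⟨g, rfl⟩
      have h1 : (g : MulAut P) e ∈ E := by rw [hE, ← map_mul, (hE e).1 he, map_one]
      refine ⟨h1, ?_⟩
      intro h2
      apply he1
      have h3 : (g : MulAut P) e = 1 := h2
      exact (map_eq_one_iff _ (g : MulAut P).injective).1 h3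
    · rintro ⟨hx, hx1⟩
      obtain ⟨i, hi⟩ := htr e he x hx he1 hx1
      exact ⟨⟨h ^ i, pow_mem (mem_zpowers h) i⟩, hi⟩
  have hn : (MulAction.orbit (zpowers h) e).ncard = p := by
    rw [horb, Set.ncard_diff_singleton_of_mem E.one_mem]
    have : (E : Set P).ncard = Nat.card E := rfl
    rw [this, hcard, Nat.add_sub_cancel]
  have hidx : (MulAction.stabilizer (zpowers h) e).index = p := by
    rw [MulAction.index_stabilizer, hn]
  haveI : (MulAction.stabilizer (zpowers h) e).Normal := by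
    refine ⟨fun n hn g => ?_⟩
    have : g * n * g⁻¹ = n := by
      obtain ⟨a, k, rfl⟩ := g
      obtain ⟨c, l, rfl⟩ := n
      apply Subtype.ext
      change h ^ k * h ^ l * (h ^ k)⁻¹ = h ^ l
      rw [← zpow_add, add_comm, zpow_add, mul_inv_cancel_right]
    rw [this]; exact hn
  have h1 := Subgroup.pow_index_mem (MulAction.stabilizer (zpowers h) e) (⟨h, mem_zpowers h⟩ : zpowers h)
  rw [hidx] at h1
  exact h1

end Res

theorem aux (n : ℕ) : ∀ {P : Type u} [Group P] [Finite P], IsPGroup 2 P → ∀ (E : Subgroup P),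
    (∀ x, x ∈ E ↔ x * x = 1) → ∀ {p : ℕ}, p.Prime → Nat.card E = p + 1 → 4 ≤ Nat.card E → ∀ (h : MulAut P),
    (∃ j, orderOf h = p ^ j) → (∀ x ∈ E, ∀ y ∈ E, x ≠ 1 → y ≠ 1 → ∃ i : ℕ, (h ^ i) x = y) → Nat.card P = n →
    h ^ p = 1 := by
  induction n using Nat.strong_induction_on with
  | _ n ih =>
  intro P _ _ hP E hE p hp hcard h4 h hh htr hn
  haveI : Fact (Nat.Prime 2) := ⟨Nat.prime_two⟩
  by_contra hb1
  obtain ⟨b, hb⟩ : ∃ b, b = h ^ p := ⟨_, rfl⟩
  rw [← hb] at hb1
  -- `p` is odd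
  have hp2 : p ≠ 2 := by
    rintro rfl
    omega
  have hpodd : Odd p := hp.odd_of_ne_two hp2
  have hbo : ∃ j, orderOf b = p ^ j := by
    obtain ⟨j, hj⟩ := hh
    have h1 : b ^ p ^ j = 1 := by
      rw [hb, ← pow_mul, mul_comm, pow_mul, ← hj, pow_orderOf_eq_one, one_pow]
    obtain ⟨k, -, hk⟩ := (Nat.dvd_prime_pow hp).1 (orderOf_dvd_of_pow_eq_one h1)
    exact ⟨k, hk⟩
  have hbodd : Odd (orderOf b) := by
    obtain ⟨j, hj⟩ := hbo
    rw [hj]; exact hpodd.pow
  have hbE : ∀ e ∈ E, b e = e := by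
    rw [hb]; exact triv_E E hE hcard h htr
  have hbh : b * h = h * b := by rw [hb, ← pow_succ, ← pow_succ']
  -- nontrivial invariant subgroups contain `E`
  have hEle : ∀ D : Subgroup P, (∀ x ∈ D, h x ∈ D) → D ≠ ⊥ → E ≤ D := by
    intro D hD hD1
    haveI : Nontrivial D := (Subgroup.nontrivial_iff_ne_bot D).2 hD1
    have h2 : 2 ∣ Nat.card D := by
      rcases (hP.to_subgroup D).card_eq_or_dvd with h' | h'
      · have := Finite.one_lt_card (α := D)
        omega
      · exact h'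
    obtain ⟨d, hd⟩ := exists_prime_orderOf_dvd_card' 2 h2
    have hd1 : (d : P) ≠ 1 := by
      intro h'
      have : d = 1 := Subtype.ext h'
      rw [this, orderOf_one] at hd
      exact absurd hd (by decide)
    have hd2 : (d : P) * d = 1 := by
      have h1 : d ^ 2 = 1 := by rw [← hd]; exact pow_orderOf_eq_one d
      rw [pow_two] at h1
      exact congrArg Subtype.val h1
    intro e he
    by_cases he1 : e = 1
    · rw [he1]; exact one_mem _
    · obtain ⟨i, hi⟩ := htr d ((hE _).2 hd2) e he hd1 he1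
      rw [← hi]; exact pow_mem' D h hD i d.2
  -- `b` is trivial on proper invariant subgroups
  have htriv : ∀ D : Subgroup P, (∀ x ∈ D, h x ∈ D) → D ≠ ⊤ → ∀ x ∈ D, b x = x := by
    intro D hD hDt x hx
    by_cases hD1 : D = ⊥
    · rw [hD1, mem_bot] at hx
      rw [hx, map_one]
    have hED := hEle D hD hD1
    have hlt : Nat.card D < n := by
      rw [← hn]
      refine lt_of_le_of_ne (Subgroup.card_le_card_group D) (fun h' => hDt (Subgroup.eq_top_of_card_eq D h'))
    have hcE : Nat.card (E.subgroupOf D) = Nat.card E := Nat.card_congr (Subgroup.subgroupOfEquivOfLe hED).toEquiv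
    have h1 := ih _ hlt (P := D) (hP.to_subgroup D) (E.subgroupOf D) (by
        intro y
        rw [mem_subgroupOf, hE, Subtype.ext_iff]; rfl) hp (by rw [hcE, hcard]) (by rw [hcE]; exact h4) (res D h hD)
      (by
        obtain ⟨j, hj⟩ := hh
        have h1 : (res D h hD) ^ p ^ j = 1 := by
          ext y
          rw [res_pow, ← hj, pow_orderOf_eq_one]; rfl
        obtain ⟨k, -, hk⟩ := (Nat.dvd_prime_pow hp).1 (orderOf_dvd_of_pow_eq_one h1)
        exact ⟨k, hk⟩)
      (by
        intro y hy w hw hy1 hw1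
        obtain ⟨i, hi⟩ := htr y hy w hw (fun h' => hy1 (Subtype.ext h')) (fun h' => hw1 (Subtype.ext h'))
        exact ⟨i, Subtype.ext (by rw [res_pow]; exact hi)⟩) rfl
    have h2 := congrArg (fun w : MulAut D => ((w ⟨x, hx⟩ : D) : P)) h1
    simp only [res_pow] at h2
    rw [hb]; exact h2
  have hone : (∀ x : P, b (x⁻¹ * b x) = x⁻¹ * b x) → False := fun hc => hb1 (eq_one_of_fix hP b hbodd hc)
  -- proper invariant normal subgroups are central
  have hcen : ∀ N : Subgroup P, N.Normal → (∀ x ∈ N, h x ∈ N) → N ≠ ⊤ → ∀ y ∈ N, ∀ x : P, y * x = x * y := by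
    intro N hN hNh hNt
    have hbN := htriv N hNh hNt
    by_cases hC : centralizer (N : Set P) = ⊤
    · intro y hy x
      have : x ∈ centralizer (N : Set P) := by rw [hC]; exact mem_top x
      exact mem_centralizer_iff.1 this y hy
    · exfalso
      apply hone
      have hCh : ∀ x ∈ centralizer (N : Set P), h x ∈ centralizer (N : Set P) := by
        intro x hx
        rw [mem_centralizer_iff] at hx ⊢
        intro y hy
        have h1 := hx (h⁻¹ y) (inv_mem' N h hNh hy)
        have h2 := congrArg h h1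
        rwa [map_mul, map_mul, MulAut.apply_inv_self] at h2
      intro x
      apply htriv _ hCh hC
      rw [mem_centralizer_iff]
      intro y hy
      have h1 := hbN _ (hN.conj_mem y hy x)
      rw [map_mul, map_mul, map_inv, hbN y hy] at h1
      calc y * (x⁻¹ * b x) = x⁻¹ * (x * y * x⁻¹) * b x := by group
        _ = x⁻¹ * (b x * y * (b x)⁻¹) * b x := by rw [h1]
        _ = x⁻¹ * b x * y := by group
  -- a normal subgroup of index 2
  obtain ⟨a, ha⟩ := IsPGroup.iff_card.1 hP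
  have hPE : Nat.card E ≤ Nat.card P := Subgroup.card_le_card_group E
  have ha1 : 1 ≤ a := by
    rcases Nat.eq_zero_or_pos a with h0 | h0
    · rw [h0, pow_zero] at ha; omega
    · exact h0
  obtain ⟨K0, hK0⟩ := Sylow.exists_subgroup_card_pow_prime 2 (G := P) (n := a - 1)
    (by rw [ha]; exact pow_dvd_pow 2 (Nat.sub_le a 1))
  have hK0i : K0.index = 2 := by
    have h1 := Subgroup.card_mul_index K0
    rw [hK0, ha] at h1
    have h2 : 2 ^ a = 2 ^ (a - 1) * 2 := by rw [← pow_succ]; congr 1; omega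
    rw [h2] at h1
    exact Nat.eq_of_mul_eq_mul_left (by positivity) h1
  haveI : K0.Normal := Subgroup.normal_of_index_eq_two hK0i
  -- squares are central
  let S : Set P := {y | ∃ x : P, y = x * x}
  have hSt : normalClosure S ≠ ⊤ := by
    intro h'
    have h1 : normalClosure S ≤ K0 := by
      apply normalClosure_le_normal
      rintro y ⟨x, rfl⟩
      exact Subgroup.mul_self_mem_of_index_two hK0i x
    rw [h', top_le_iff] at h1
    rw [h1, index_top] at hK0i
    exact absurd hK0i (by decide)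
  have hSh : ∀ x ∈ normalClosure S, h x ∈ normalClosure S := by
    intro x hx
    have h1 : (normalClosure S).map h.toMonoidHom = normalClosure (h.toMonoidHom '' S) :=
      Subgroup.map_normalClosure S h.toMonoidHom h.surjective
    have h2 : h.toMonoidHom '' S ⊆ S := by
      rintro _ ⟨y, ⟨w, rfl⟩, rfl⟩
      exact ⟨h w, map_mul h w w⟩
    have h3 : h x ∈ (normalClosure S).map h.toMonoidHom := ⟨x, hx, rfl⟩
    rw [h1] at h3
    exact Subgroup.normalClosure_mono h2 h3
  have hsqS : ∀ x : P, x * x ∈ normalClosure S := fun x => subset_normalClosure ⟨x, rfl⟩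
  have hsqb : ∀ x : P, b (x * x) = x * x := fun x => htriv _ hSh hSt _ (hsqS x)
  have hsqc : ∀ x y : P, x * x * y = y * (x * x) := fun x y => hcen _ normalClosure_normal hSh hSt _ (hsqS x) y
  -- `P` is not abelian
  have hnab : ¬ ∀ x y : P, x * y = y * x := by
    intro hab
    apply hone
    intro x
    apply hbE
    rw [hE]
    have h1 := hsqb x
    rw [map_mul] at h1
    calc x⁻¹ * b x * (x⁻¹ * b x) = x⁻¹ * (b x * x⁻¹) * b x := by group
      _ = x⁻¹ * (x⁻¹ * b x) * b x := by rw [hab (b x) x⁻¹]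
      _ = (x * x)⁻¹ * (b x * b x) := by group
      _ = 1 := by rw [h1, inv_mul_cancel]
  have hE_top : E ≠ ⊤ := by
    intro h'
    apply hnab
    intro x y
    have h2 : ∀ w : P, w * w = 1 := fun w => (hE w).1 (by rw [h']; exact mem_top w)
    have i1 : x⁻¹ = x := inv_eq_of_mul_eq_one_left (h2 x)
    have i2 : y⁻¹ = y := inv_eq_of_mul_eq_one_left (h2 y)
    have i3 : (x * y)⁻¹ = x * y := inv_eq_of_mul_eq_one_left (h2 (x * y))
    rw [← i3, mul_inv_rev, i1, i2]
  have hEh : ∀ x ∈ E, h x ∈ E := by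
    intro x hx
    rw [hE] at hx ⊢
    rw [← map_mul, hx, map_one]
  have hEn : E.Normal := ⟨fun x hx g => by
    rw [hE] at hx ⊢
    calc g * x * g⁻¹ * (g * x * g⁻¹) = g * (x * x) * g⁻¹ := by group
      _ = 1 := by rw [hx]; group⟩
  have hEZ : ∀ e ∈ E, ∀ x : P, e * x = x * e := hcen E hEn hEh hE_top
  -- the centre
  have hZt : center P ≠ ⊤ := by
    intro h'
    apply hnab
    intro x y
    have : y ∈ center P := by rw [h']; exact mem_top y
    exact mem_center_iff.1 this x
  have hZh : ∀ x ∈ center P, h x ∈ center P := by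
    intro x hx
    rw [mem_center_iff] at hx ⊢
    intro y
    have h1 := congrArg h (hx (h⁻¹ y))
    rwa [map_mul, map_mul, MulAut.apply_inv_self] at h1
  have hbZ := htriv _ hZh hZt
  have hsqZ : ∀ x : P, x * x ∈ center P := fun x => mem_center_iff.2 (fun y => (hsqc x y).symm)
  have hZc : ∀ e ∈ center P, ∀ x : P, e * x = x * e := fun e he x => (mem_center_iff.1 he x).symm
  -- `Z(P) = E`
  have hZE : ∀ z ∈ center P, z * z = 1 := by
    by_contra hcon
    push Not at hcon
    obtain ⟨z0, hz0, hz01⟩ := hcon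
    let Z2 : Subgroup P :=
      { carrier := {y | ∃ z ∈ center P, y = z * z}
        one_mem' := ⟨1, one_mem _, (one_mul 1).symm⟩
        mul_mem' := by
          rintro _ _ ⟨z, hz, rfl⟩ ⟨w, hw, rfl⟩
          refine ⟨z * w, mul_mem hz hw, ?_⟩
          calc z * z * (w * w) = z * (z * w) * w := by group
            _ = z * (w * z) * w := by rw [hZc z hz w]
            _ = z * w * (z * w) := by group
        inv_mem' := by
          rintro _ ⟨z, hz, rfl⟩
          exact ⟨z⁻¹, inv_mem hz, mul_inv_rev z z⟩ }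
    have hZ2h : ∀ x ∈ Z2, h x ∈ Z2 := by
      rintro _ ⟨z, hz, rfl⟩
      exact ⟨h z, hZh z hz, map_mul h z z⟩
    have hEZ2 : E ≤ Z2 := hEle Z2 hZ2h (by
      intro h'
      apply hz01
      have h1 : z0 * z0 ∈ Z2 := ⟨z0, hz0, rfl⟩
      rwa [h', mem_bot] at h1)
    apply hone
    intro x
    apply hbZ
    obtain ⟨c, hc⟩ : ∃ c, c = x⁻¹ * b x := ⟨_, rfl⟩
    rw [← hc]
    have h1 : b x = x * c := by rw [hc, mul_inv_cancel_left]
    have h2 := hsqb x
    rw [map_mul, h1] at h2
    -- c x c = x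
    have h3 : c * x * c = x := by
      have : x * (c * x * c) = x * x := by rw [← h2]; group
      exact mul_left_cancel this
    have h4 : x⁻¹ * c * x⁻¹⁻¹ * c⁻¹ = c⁻¹ * c⁻¹ := by
      have h5 : c * x = x * c⁻¹ := by rw [eq_mul_inv_iff_mul_eq]; exact h3
      calc x⁻¹ * c * x⁻¹⁻¹ * c⁻¹ = x⁻¹ * (c * x) * c⁻¹ := by group
        _ = x⁻¹ * (x * c⁻¹) * c⁻¹ := by rw [h5]
        _ = c⁻¹ * c⁻¹ := by group
    have hk := (comm_mem (center P) hZc hsqZ x⁻¹ c).1
    rw [h4] at hk
    -- k² = 1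
    have hk2 : c⁻¹ * c⁻¹ * (c⁻¹ * c⁻¹) = 1 := by
      obtain ⟨k, hkd⟩ : ∃ k, k = c⁻¹ * c⁻¹ := ⟨_, rfl⟩
      rw [← hkd] at h4 hk ⊢
      have h6 : x⁻¹ * c * x = k * c := by
        rw [← h4]; group
      have h7 : x⁻¹ * (x⁻¹ * c * x) * x = k * (k * c) := by
        rw [h6]
        calc x⁻¹ * (k * c) * x = (x⁻¹ * k) * c * x := by group
          _ = (k * x⁻¹) * c * x := by rw [hZc k hk x⁻¹]
          _ = k * (x⁻¹ * c * x) := by group
          _ = k * (k * c) := by rw [h6]
      have h8 : x⁻¹ * (x⁻¹ * c * x) * x = c := by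
        calc x⁻¹ * (x⁻¹ * c * x) * x = (x * x)⁻¹ * (c * (x * x)) := by group
          _ = (x * x)⁻¹ * (x * x * c) := by rw [hsqc x c]
          _ = c := by group
      rw [h8] at h7
      have h9 : 1 * c = k * k * c := by rw [one_mul, mul_assoc]; exact h7
      exact (mul_right_cancel h9).symm
    have hcE : c * c ∈ E := by
      have h6 : c⁻¹ * c⁻¹ ∈ E := (hE _).2 hk2
      have h7 := inv_mem h6
      have h8 : (c⁻¹ * c⁻¹)⁻¹ = c * c := by rw [mul_inv_rev, inv_inv]
      rwa [h8] at h7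
    obtain ⟨z, hz, hzz⟩ := hEZ2 hcE
    have h6 : c * z⁻¹ ∈ E := by
      rw [hE]
      calc c * z⁻¹ * (c * z⁻¹) = c * (z⁻¹ * c) * z⁻¹ := by group
        _ = c * (c * z⁻¹) * z⁻¹ := by rw [hZc z⁻¹ (inv_mem hz) c]
        _ = c * c * (z * z)⁻¹ := by group
        _ = 1 := by rw [hzz, mul_inv_cancel]
    have h7 : c * z⁻¹ ∈ center P := mem_center_iff.2 (fun y => (hEZ _ h6 y).symm)
    have h8 := mul_mem h7 hz
    rwa [inv_mul_cancel_right] at h8
  have hsqE : ∀ x : P, x * x ∈ E := fun x => (hE _).2 (hZE _ (hsqZ x))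
  rcases card_cases E hE hEZ hsqE (fun x hx y hy hx1 hy1 => by
    obtain ⟨i, hi⟩ := htr x hx y hy hx1 hy1
    exact ⟨h ^ i, hi⟩) h4 with hc | hc
  · exact hE_top (Subgroup.eq_top_of_card_eq E hc.symm)
  · apply hb1
    ext x
    exact count hP E hE hsqE hp hp2 hcard h htr b hbo hbh hbE hc x

/-- (HB) -/
theorem hb {P : Type u} [Group P] [Finite P] (hP : IsPGroup 2 P) (E : Subgroup P) (hE : ∀ x, x ∈ E ↔ x * x = 1)
    {p : ℕ} (hp : p.Prime) (hcard : Nat.card E = p + 1) (h4 : 4 ≤ Nat.card E) (h : MulAut P)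
    (hh : ∃ j, orderOf h = p ^ j) (htr : ∀ x ∈ E, ∀ y ∈ E, x ≠ 1 → y ≠ 1 → ∃ i : ℕ, (h ^ i) x = y) : h ^ p = 1 :=
  aux _ hP E hE hp hcard h4 h hh htr rfl

end Cfsg.Agent.H22W.HB
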