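import Cfsg.Agent.H9.PyrQF

set_option autoImplicit false
set_option linter.style.haveILetI false
set_option linter.unusedSectionVars false

/-! S3930, piece HB (helper22): application of the quadratic map lemma and fibre counting. -/

namespace Cfsg.Agent.H22W.HB

open Subgroup

section Sq
variable {P : Type*} [Group P] (E : Subgroup P)

theorem comm_mem (hZ : ∀ e ∈ E, ∀ x : P, e * x = x * e) (hsq : ∀ x : P, x * x ∈ E) (x y : P) :
    x * y * x⁻¹ * y⁻¹ ∈ E ∧ x * y * (x * y) = (x * y * x⁻¹ * y⁻¹) * (x * x) * (y * y) := by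
  have h1 := hsq (x * y)
  have h2 := E.inv_mem (hsq x)
  have h3 := E.inv_mem (hsq y)
  have h4 := mul_mem (mul_mem h1 h3) h2
  have e : x * y * (x * y) * (y * y)⁻¹ * (x * x)⁻¹ = x * y * x⁻¹ * y⁻¹ := by
    calc x * y * (x * y) * (y * y)⁻¹ * (x * x)⁻¹ = x * y * x * (y⁻¹ * (x * x)⁻¹) := by group
      _ = x * y * x * ((x * x)⁻¹ * y⁻¹) := by rw [hZ _ h2 y⁻¹]
      _ = x * y * x⁻¹ * y⁻¹ := by group
  refine ⟨by rwa [e] at h4, ?_⟩
  rw [← e]; group

end Sq

section Core
variable {P : Type*} [Group P] [Finite P] (E : Subgroup P) (hE : ∀ x, x ∈ E ↔ x * x = 1)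
  (hZ : ∀ e ∈ E, ∀ x : P, e * x = x * e) (hsq : ∀ x : P, x * x ∈ E)

include hE hZ hsq in
/-- the order of a 2-group with elementary centre containing all squares -/
theorem card_cases (htr : ∀ x ∈ E, ∀ y ∈ E, x ≠ 1 → y ≠ 1 → ∃ g : MulAut P, g x = y)
    (h4 : 4 ≤ Nat.card E) :
    Nat.card P = Nat.card E ∨ Nat.card P = Nat.card E ^ 2 ∨ Nat.card P = Nat.card E ^ 3 := by
  classical
  haveI hEn : E.Normal := ⟨fun n hn g => by
    have : g * n * g⁻¹ = n := by rw [← hZ n hn g]; group
    rw [this]; exact hn⟩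
  -- the groups
  letI instE : CommGroup E :=
    { (inferInstance : Group E) with mul_comm := fun a b => Subtype.ext (hZ a a.2 b) }
  have hcomm : ∀ x y : P, (QuotientGroup.mk x : P ⧸ E) * QuotientGroup.mk y = QuotientGroup.mk y * QuotientGroup.mk x := by
    intro x y
    have h1 := (comm_mem E hZ hsq x y).1
    have h2 : (QuotientGroup.mk (x * y * x⁻¹ * y⁻¹) : P ⧸ E) = 1 := (QuotientGroup.eq_one_iff _).2 h1
    have h3 : (QuotientGroup.mk x : P ⧸ E) * QuotientGroup.mk y * (QuotientGroup.mk x)⁻¹ * (QuotientGroup.mk y)⁻¹ = 1 := h2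
    have h4 := mul_inv_eq_one.1 h3
    rw [mul_inv_eq_iff_eq_mul] at h4
    exact h4
  letI instV : CommGroup (P ⧸ E) :=
    { (inferInstance : Group (P ⧸ E)) with
      mul_comm := fun a b => by
        obtain ⟨x, rfl⟩ := QuotientGroup.mk_surjective a
        obtain ⟨y, rfl⟩ := QuotientGroup.mk_surjective b
        exact hcomm x y }
  have hEg : ∀ (g : MulAut P) (x : P), x ∈ E → g x ∈ E := by
    intro g x hx
    rw [hE] at hx ⊢
    rw [← map_mul, hx, map_one]
  have hEc : ∀ g : MulAut P, E ≤ E.comap g.toMonoidHom := fun g x hx => hEg g x hx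
  letI actV : DistribMulAction (MulAut P) (Additive (P ⧸ E)) :=
    { smul := fun g v => Additive.ofMul (QuotientGroup.map E E g.toMonoidHom (hEc g) v.toMul)
      one_smul := by
        intro v
        obtain ⟨x, hx⟩ := QuotientGroup.mk_surjective v.toMul
        show Additive.ofMul (QuotientGroup.map E E _ _ v.toMul) = v
        rw [← hx]; exact congrArg Additive.ofMul hx
      mul_smul := by
        intro g h v
        obtain ⟨x, hx⟩ := QuotientGroup.mk_surjective v.toMul
        show Additive.ofMul (QuotientGroup.map E E (g * h).toMonoidHom (hEc (g * h)) v.toMul) =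
          Additive.ofMul (QuotientGroup.map E E g.toMonoidHom (hEc g)
          (QuotientGroup.map E E h.toMonoidHom (hEc h) v.toMul))
        rw [← hx]; rfl
      smul_zero := by
        intro g
        exact congrArg Additive.ofMul (map_one (QuotientGroup.map E E g.toMonoidHom (hEc g)))
      smul_add := by
        intro g v w
        exact congrArg Additive.ofMul (map_mul (QuotientGroup.map E E g.toMonoidHom (hEc g)) v.toMul w.toMul) }
  letI actE : DistribMulAction (MulAut P) (Additive E) :=
    { smul := fun g v => Additive.ofMul ⟨g (v.toMul : P), hEg g _ v.toMul.2⟩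
      one_smul := fun v => rfl
      mul_smul := fun g h v => rfl
      smul_zero := fun g => congrArg Additive.ofMul (Subtype.ext (map_one g))
      smul_add := fun g v w => congrArg Additive.ofMul (Subtype.ext (map_mul g (v.toMul : P) (w.toMul : P))) }
  -- the quadratic map
  let q0 : P → Additive E := fun x => Additive.ofMul ⟨x * x, hsq x⟩
  let kk : P → P → Additive E := fun x y => Additive.ofMul ⟨x * y * x⁻¹ * y⁻¹, (comm_mem E hZ hsq x y).1⟩
  have hq0m : ∀ x y : P, q0 (x * y) = kk x y + q0 x + q0 y := fun x y =>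
    congrArg Additive.ofMul (Subtype.ext (comm_mem E hZ hsq x y).2)
  have hkm : ∀ x y z : P, kk x (y * z) = kk x y + kk x z := by
    intro x y z
    apply congrArg Additive.ofMul
    apply Subtype.ext
    change x * (y * z) * x⁻¹ * (y * z)⁻¹ = (x * y * x⁻¹ * y⁻¹) * (x * z * x⁻¹ * z⁻¹)
    have h1 := hZ _ (comm_mem E hZ hsq x z).1 y⁻¹
    calc x * (y * z) * x⁻¹ * (y * z)⁻¹ = x * y * x⁻¹ * ((x * z * x⁻¹ * z⁻¹) * y⁻¹) := by group
      _ = x * y * x⁻¹ * (y⁻¹ * (x * z * x⁻¹ * z⁻¹)) := by rw [h1]
      _ = _ := by group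
  have hq0e : ∀ x e : P, e ∈ E → q0 (x * e) = q0 x := by
    intro x e he
    apply congrArg Additive.ofMul
    apply Subtype.ext
    change x * e * (x * e) = x * x
    calc x * e * (x * e) = x * (e * x) * e := by group
      _ = x * (x * e) * e := by rw [hZ e he]
      _ = x * x * (e * e) := by group
      _ = x * x := by rw [(hE e).1 he, mul_one]
  have hlift : ∀ a b : P, QuotientGroup.leftRel E a b → q0 a = q0 b := by
    intro a b hab
    have h1 : a⁻¹ * b ∈ E := QuotientGroup.leftRel_apply.1 hab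
    have h2 := hq0e a (a⁻¹ * b) h1
    rw [mul_inv_cancel_left] at h2
    exact h2.symm
  let q : Additive (P ⧸ E) → Additive E := fun v => Quotient.lift q0 hlift v.toMul
  have hq : ∀ x : P, q (Additive.ofMul (QuotientGroup.mk x : P ⧸ E)) = q0 x := fun x => rfl
  have hsurj : ∀ v : Additive (P ⧸ E), ∃ x : P, Additive.ofMul (QuotientGroup.mk x : P ⧸ E) = v := by
    intro v
    obtain ⟨x, hx⟩ := QuotientGroup.mk_surjective v.toMul
    exact ⟨x, congrArg Additive.ofMul hx⟩
  have hE2 : ∀ e : Additive E, e + e = 0 := by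
    intro e
    apply congrArg Additive.ofMul
    apply Subtype.ext
    exact (hE _).1 (e.toMul).2
  have hV2 : ∀ v : Additive (P ⧸ E), v + v = 0 := by
    intro v
    obtain ⟨x, rfl⟩ := hsurj v
    exact congrArg Additive.ofMul ((QuotientGroup.eq_one_iff (x * x)).2 (hsq x))
  have hfin := Cfsg.Agent.H9.PyrQF.quad (V := Additive (P ⧸ E)) (E := Additive E) (H := MulAut P) hV2 hE2 q ?_ ?_ ?_ ?_ h4
  · have hc := Subgroup.card_eq_card_quotient_mul_card_subgroup E
    have hV : Nat.card (Additive (P ⧸ E)) = Nat.card (P ⧸ E) := rfl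
    have hEE : Nat.card (Additive E) = Nat.card E := rfl
    rw [hV, hEE] at hfin
    rcases hfin with h | ⟨h, -⟩ | ⟨h, -⟩
    · left; rw [hc, h, one_mul]
    · right; left; rw [hc, h]; ring
    · right; right; rw [hc, h]; ring
  · intro u v w
    obtain ⟨x, rfl⟩ := hsurj u
    obtain ⟨y, rfl⟩ := hsurj v
    obtain ⟨z, rfl⟩ := hsurj w
    change q0 (x * y * z) + q0 x + q0 y + q0 z = q0 (x * y) + q0 (x * z) + q0 (y * z)
    rw [mul_assoc x y z, hq0m x (y * z), hkm, hq0m x y, hq0m x z, hq0m y z]
    abel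
  · intro v
    obtain ⟨x, rfl⟩ := hsurj v
    constructor
    · intro h
      have h1 : x * x = 1 := congrArg (fun w : Additive E => ((w.toMul : E) : P)) h
      exact congrArg Additive.ofMul ((QuotientGroup.eq_one_iff x).2 ((hE x).2 h1))
    · intro h
      have h1 : (QuotientGroup.mk x : P ⧸ E) = 1 := congrArg Additive.toMul h
      have h2 := (hE x).1 ((QuotientGroup.eq_one_iff x).1 h1)
      exact congrArg Additive.ofMul (Subtype.ext h2)
  · intro g v
    obtain ⟨x, rfl⟩ := hsurj v
    apply congrArg Additive.ofMul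
    apply Subtype.ext
    exact (map_mul g x x).symm
  · intro e f he hf
    obtain ⟨g, hg⟩ := htr (e.toMul : E) (e.toMul).2 (f.toMul : E) (f.toMul).2
      (fun h => he (congrArg Additive.ofMul (Subtype.ext h))) (fun h => hf (congrArg Additive.ofMul (Subtype.ext h)))
    exact ⟨g, congrArg Additive.ofMul (Subtype.ext hg)⟩

end Core

/-- counting with fibres of constant size outside one point -/
theorem card_fib {X Y : Type*} [Finite X] [Finite Y] (g : X → Y) (y0 : Y) (f : ℕ)
    (h : ∀ y, y ≠ y0 → Nat.card {x // g x = y} = f) :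
    Nat.card X = Nat.card {x // g x = y0} + (Nat.card Y - 1) * f := by
  classical
  letI := Fintype.ofFinite Y
  rw [← Nat.card_congr (Equiv.sigmaFiberEquiv g), Nat.card_sigma]
  rw [← Finset.add_sum_erase Finset.univ _ (Finset.mem_univ y0)]
  congr 1
  rw [Finset.sum_congr rfl (fun y hy => h y (Finset.ne_of_mem_erase hy)), Finset.sum_const,
    Finset.card_erase_of_mem (Finset.mem_univ y0), Finset.card_univ, smul_eq_mul, Nat.card_eq_fintype_card]

/-- an automorphism `b` of odd order of a 2-group, with `x⁻¹ b(x)` in a set of fixed points -/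
theorem eq_one_of_fix {P : Type*} [Group P] [Finite P] (hP : IsPGroup 2 P) (b : MulAut P) (hb : Odd (orderOf b))
    (hc : ∀ x : P, b (x⁻¹ * b x) = x⁻¹ * b x) : b = 1 := by
  ext x
  obtain ⟨c, hcdef⟩ : ∃ c, c = x⁻¹ * b x := ⟨_, rfl⟩
  have hbc : b c = c := by rw [hcdef]; exact hc x
  have h1 : b x = x * c := by rw [hcdef, mul_inv_cancel_left]
  have h2 : ∀ i : ℕ, (b ^ i) x = x * c ^ i := by
    intro i
    induction i with
    | zero => simp
    | succ i ih =>
      rw [pow_succ', MulAut.mul_apply, ih, map_mul, map_pow, hbc, h1, pow_succ' c, mul_assoc]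
  have h3 := h2 (orderOf b)
  rw [pow_orderOf_eq_one, MulAut.one_apply] at h3
  have h4 : c ^ orderOf b = 1 := by
    have h5 : x * 1 = x * c ^ orderOf b := by rw [mul_one]; exact h3
    exact (mul_left_cancel h5).symm
  have h6 := orderOf_dvd_of_pow_eq_one h4
  obtain ⟨k, hk⟩ := IsPGroup.iff_orderOf.1 hP c
  have h7 : c = 1 := by
    rcases k with _ | k
    · rw [pow_zero] at hk; exact orderOf_eq_one_iff.1 hk
    · exfalso
      have h8 : Odd (orderOf c) := Odd.of_dvd_nat hb h6
      rw [hk, pow_succ, Nat.odd_mul] at h8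
      exact absurd h8.2 (by decide)
  rw [MulAut.one_apply, h1, h7, mul_one]

section Count
variable {P : Type*} [Group P] [Finite P]

/-- the fibre of the square map -/
def Fb (e : P) : Type _ := {x : P // x * x = e}

instance (e : P) : Finite (Fb e) := by unfold Fb; infer_instance

omit [Finite P] in
theorem card_Fb_congr (g : MulAut P) (e : P) : Nat.card (Fb e) = Nat.card (Fb (g e)) := by
  refine Nat.card_congr ⟨fun x => ⟨g x.1, by rw [← map_mul, x.2]⟩, fun x => ⟨g⁻¹ x.1, ?_⟩, ?_, ?_⟩
  · rw [← map_mul, x.2, MulAut.inv_apply_self]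
  · intro x; exact Subtype.ext (MulAut.inv_apply_self _ _ _)
  · intro x; exact Subtype.ext (MulAut.apply_inv_self _ _ _)

/-- the final counting argument: `b` fixes everything -/
theorem count (hP : IsPGroup 2 P) (E : Subgroup P) (hE : ∀ x, x ∈ E ↔ x * x = 1)
    (hsq : ∀ x : P, x * x ∈ E) {p : ℕ} (hp : p.Prime) (hp2 : p ≠ 2)
    (hcard : Nat.card E = p + 1) (h : MulAut P)
    (htr : ∀ x ∈ E, ∀ y ∈ E, x ≠ 1 → y ≠ 1 → ∃ i : ℕ, (h ^ i) x = y) (b : MulAut P)
    (hb : ∃ j, orderOf b = p ^ j) (hbh : b * h = h * b) (hbE : ∀ e ∈ E, b e = e)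
    (hc : Nat.card P = Nat.card E ^ 2 ∨ Nat.card P = Nat.card E ^ 3) : ∀ x, b x = x := by
  classical
  haveI : Fact p.Prime := ⟨hp⟩
  have hp3 : 3 ≤ p := by
    have := hp.two_le
    omega
  -- an involution
  obtain ⟨e0, he0E, he01⟩ : ∃ e ∈ E, e ≠ 1 := by
    by_contra hcon
    push Not at hcon
    have : E = ⊥ := by rw [eq_bot_iff]; intro x hx; exact hcon x hx
    rw [this, Subgroup.card_bot] at hcard
    omega
  -- the fixed points
  let C : Subgroup P :=
    { carrier := {x | b x = x}
      one_mem' := map_one b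
      mul_mem' := fun {x y} hx hy => by
        change b (x * y) = x * y
        rw [map_mul]; exact congrArg₂ _ hx hy
      inv_mem' := fun {x} hx => by
        change b x⁻¹ = x⁻¹
        rw [map_inv]; exact congrArg _ hx }
  have hCm : ∀ x, x ∈ C ↔ b x = x := fun x => Iff.rfl
  have hEC : E ≤ C := fun x hx => hbE x hx
  have hbhi : ∀ (i : ℕ) (x : P), b ((h ^ i) x) = (h ^ i) (b x) := by
    intro i x
    have h1 : Commute b (h ^ i) := (show Commute b h from hbh).pow_right i
    have h2 := congrArg (fun w : MulAut P => w x) h1.eq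
    simpa using h2
  -- fibres in `P` and in `C`
  set f := Nat.card (Fb e0) with hf
  set f' := Nat.card {x : Fb e0 // b x.1 = x.1} with hf'
  have hfib : ∀ e ∈ E, e ≠ 1 → Nat.card (Fb e) = f := by
    intro e he he1
    obtain ⟨i, hi⟩ := htr e he e0 he0E he1 he01
    rw [card_Fb_congr (h ^ i) e, hi]
  have hfib' : ∀ e ∈ E, e ≠ 1 → Nat.card {x : Fb e // b x.1 = x.1} = f' := by
    intro e he he1
    obtain ⟨i, hi⟩ := htr e he e0 he0E he1 he01
    refine Nat.card_congr ⟨fun x => ⟨⟨(h ^ i) x.1.1, by rw [← map_mul, x.1.2, hi]⟩, by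
        change b ((h ^ i) x.1.1) = (h ^ i) x.1.1
        rw [hbhi, x.2]⟩,
      fun x => ⟨⟨(h ^ i)⁻¹ x.1.1, by rw [← map_mul, x.1.2, ← hi, MulAut.inv_apply_self]⟩, by
        change b ((h ^ i)⁻¹ x.1.1) = (h ^ i)⁻¹ x.1.1
        have h1 := hbhi i ((h ^ i)⁻¹ x.1.1)
        rw [MulAut.apply_inv_self, x.2] at h1
        have h2 := congrArg ((h ^ i)⁻¹ : MulAut P) h1
        rw [MulAut.inv_apply_self] at h2
        exact h2.symm⟩, ?_, ?_⟩
    · intro x; exact Subtype.ext (Subtype.ext (MulAut.inv_apply_self _ _ _))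
    · intro x; exact Subtype.ext (Subtype.ext (MulAut.apply_inv_self _ _ _))
  -- |P| = (p + 1) + p f
  have hP1 : Nat.card P = (p + 1) + p * f := by
    have h1 := card_fib (X := P) (Y := E) (fun x => ⟨x * x, hsq x⟩) 1 f (by
      intro y hy
      rw [← hfib y y.2 (fun h => hy (Subtype.ext h))]
      exact Nat.card_congr (Equiv.subtypeEquivRight (fun x => Subtype.ext_iff)))
    rw [h1, hcard, Nat.add_sub_cancel]
    congr 1
    rw [← hcard]
    refine Nat.card_congr (Equiv.subtypeEquivRight (fun x => ?_))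
    rw [hE, Subtype.ext_iff]; rfl
  have hC1 : Nat.card C = (p + 1) + p * f' := by
    have h1 := card_fib (X := C) (Y := E) (fun x => ⟨(x : P) * x, hsq x⟩) 1 f' (by
      intro y hy
      rw [← hfib' y y.2 (fun h => hy (Subtype.ext h))]
      refine Nat.card_congr ⟨fun x => ⟨⟨x.1.1, congrArg Subtype.val x.2⟩, x.1.2⟩,
        fun x => ⟨⟨x.1.1, x.2⟩, Subtype.ext x.1.2⟩, fun x => rfl, fun x => rfl⟩)
    rw [h1, hcard, Nat.add_sub_cancel]
    congr 1
    rw [← hcard]
    refine Nat.card_congr ⟨fun x => ⟨x.1.1, (hE _).2 (congrArg Subtype.val x.2)⟩,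
      fun x => ⟨⟨x.1, hEC x.2⟩, Subtype.ext ((hE _).1 x.2)⟩, fun x => rfl, fun x => rfl⟩
  -- `f' ≡ f mod p`
  have hmod : f ≡ f' [MOD p] := by
    have hbe : ∀ g ∈ zpowers b, ∀ e ∈ E, g e = e := by
      intro g hg e he
      have hle : zpowers b ≤ (MulAction.stabilizer (MulAut P) e) := by
        rw [zpowers_le]; exact hbE e he
      exact hle hg
    letI : MulAction (zpowers b) (Fb e0) :=
      { smul := fun g x => ⟨(g : MulAut P) x.1, by rw [← map_mul, x.2]; exact hbe g g.2 e0 he0E⟩
        one_smul := fun x => rfl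
        mul_smul := fun g k x => rfl }
    have hpg : IsPGroup p (zpowers b) := by
      obtain ⟨j, hj⟩ := hb
      rw [IsPGroup.iff_card]
      exact ⟨j, by rw [Nat.card_zpowers, hj]⟩
    have h1 := hpg.card_modEq_card_fixedPoints (Fb e0)
    have h2 : Nat.card (MulAction.fixedPoints (zpowers b) (Fb e0)) = f' := by
      refine Nat.card_congr (Equiv.subtypeEquivRight (fun x => ?_))
      constructor
      · intro hx
        exact congrArg Subtype.val (hx ⟨b, mem_zpowers b⟩)
      · intro hx g
        have hle : zpowers b ≤ (MulAction.stabilizer (MulAut P) x.1) := by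
          rw [zpowers_le]; exact hx
        exact Subtype.ext (hle g.2)
    rw [h2] at h1
    exact h1
  -- arithmetic
  have hpw : ∀ d c : ℕ, d ∣ 2 ^ c → Odd d → d = 1 := by
    intro d c hd ho
    exact Nat.Coprime.eq_one_of_dvd (Nat.Coprime.pow_right c (Nat.coprime_two_right.2 ho)) hd
  obtain ⟨c, hcc⟩ := IsPGroup.iff_card.1 (hP.to_subgroup C)
  have hEd : p + 1 ∣ Nat.card C := by rw [← hcard]; exact Subgroup.card_dvd_of_le hEC
  have hCP : Nat.card C ≤ Nat.card P := Subgroup.card_le_card_group C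
  have hff : f' ≤ f := by
    have h1 : p * f' ≤ p * f := by omega
    exact Nat.le_of_mul_le_mul_left h1 (by omega)
  have key : Nat.card C = Nat.card P := by
    rcases hc with hc | hc
    · have hf1 : f = p + 1 := by
        have h1 : p * f = p * (p + 1) := by
          rw [hcard] at hc
          have : (p + 1) + p * f = (p + 1) + p * (p + 1) := by rw [← hP1, hc]; ring
          omega
        exact Nat.eq_of_mul_eq_mul_left (by omega) h1
      have h2 : f' % p = 1 := by
        have h3 : f' % p = f % p := hmod.symm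
        rw [h3, hf1, Nat.add_mod_left, Nat.mod_eq_of_lt (by omega)]
      have h4 := Nat.div_add_mod f' p
      rw [h2] at h4
      obtain ⟨t, ht⟩ : ∃ t, t = f' / p := ⟨_, rfl⟩
      rw [← ht] at h4
      have h5 : t ≤ 1 := by
        by_contra hcon
        have : p * 2 ≤ p * t := Nat.mul_le_mul_left p (by omega)
        omega
      interval_cases t
      · exfalso
        have h6 : Nat.card C = 2 * p + 1 := by rw [hC1, ← h4]; ring
        have h7 := hpw (2 * p + 1) c (by rw [← hcc, h6]) ⟨p, rfl⟩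
        omega
      · rw [hC1, hP1, hf1, ← h4]; ring
    · have hf1 : f = (p + 1) * (p + 2) := by
        have h1 : p * f = p * ((p + 1) * (p + 2)) := by
          rw [hcard] at hc
          have : (p + 1) + p * f = (p + 1) + p * ((p + 1) * (p + 2)) := by rw [← hP1, hc]; ring
          omega
        exact Nat.eq_of_mul_eq_mul_left (by omega) h1
      have h2 : f' % p = 2 := by
        have h3 : f' % p = f % p := hmod.symm
        have h3' : (p + 1) * (p + 2) = 2 + p * (p + 3) := by ring
        rw [h3, hf1, h3', Nat.add_mul_mod_self_left, Nat.mod_eq_of_lt (by omega)]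
      have h4 := Nat.div_add_mod f' p
      rw [h2] at h4
      obtain ⟨t, ht⟩ : ∃ t, t = f' / p := ⟨_, rfl⟩
      rw [← ht] at h4
      have h5 : t ≤ p + 3 := by
        by_contra hcon
        have h6 : p * (p + 4) ≤ p * t := Nat.mul_le_mul_left p (by omega)
        have h7 : p * (p + 4) = p * p + 4 * p := by ring
        have h8 : f = p * p + 3 * p + 2 := by rw [hf1]; ring
        omega
      have h6 : Nat.card C = 1 + 3 * p + p * p * t := by rw [hC1, ← h4]; ring
      obtain ⟨k, hk⟩ := hEd
      rw [h6] at hk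
      -- `p + 1 ∣ t - 2`
      have h7 : ((t : ℤ) - 2) = ((p : ℤ) + 1) * ((k : ℤ) - ((p : ℤ) - 1) * t - 3) := by
        have hk' : (1 : ℤ) + 3 * p + p * p * t = (p + 1) * k := by exact_mod_cast hk
        linear_combination hk'
      obtain ⟨l, hl⟩ : ∃ l : ℤ, l = (k : ℤ) - ((p : ℤ) - 1) * t - 3 := ⟨_, rfl⟩
      rw [← hl] at h7
      have hp3' : (3 : ℤ) ≤ p := by exact_mod_cast hp3
      have ht0 : (0 : ℤ) ≤ t := Int.natCast_nonneg t
      have ht1 : (t : ℤ) ≤ p + 3 := by exact_mod_cast h5
      have hl0 : 0 ≤ l := by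
        by_contra hcon
        have h8 : l ≤ -1 := by omega
        have h9 : ((p : ℤ) + 1) * l ≤ ((p : ℤ) + 1) * (-1) := mul_le_mul_of_nonneg_left h8 (by omega)
        linarith
      have hl1 : l ≤ 1 := by
        by_contra hcon
        have h8 : 2 ≤ l := by omega
        have h9 : ((p : ℤ) + 1) * 2 ≤ ((p : ℤ) + 1) * l := mul_le_mul_of_nonneg_left h8 (by omega)
        linarith
      have hl2 : l = 0 ∨ l = 1 := by omega
      rcases hl2 with hl2 | hl2
      · exfalso
        rw [hl2, mul_zero] at h7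
        have ht2 : t = 2 := by omega
        have h8 : Nat.card C = (p + 1) * (2 * p + 1) := by rw [h6, ht2]; ring
        have h9 := hpw (2 * p + 1) c (by rw [← hcc, h8]; exact Dvd.intro_left _ rfl) ⟨p, rfl⟩
        omega
      · rw [hl2, mul_one] at h7
        have ht2 : t = p + 3 := by omega
        rw [h6, hP1, hf1, ht2]; ring
  have htop : C = ⊤ := Subgroup.eq_top_of_card_eq C key
  intro x
  have : x ∈ C := by rw [htop]; exact mem_top x
  exact this

end Count

end Cfsg.Agent.H22W.HB
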